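import Mathlib
import Groth.Agent.RedTensor.Basic
import Groth.Agent.FinHopf.Points

/-! Reduced finite group schemes over an algebraically closed field and their groups of points. -/

set_option autoImplicit false
universe u v w

open TensorProduct WithConv

noncomputable section

namespace Groth.Agent.SmallGrp

variable {k : Type u} [Field k] [IsAlgClosed k] {E : Type v} [CommRing E] [Algebra k E] [Module.Finite k E]

theorem finite_pts : Finite (E →ₐ[k] k) :=
  (linearIndependent_algHom_toLinearMap k E k).finite

theorem ext_pts [IsReduced E] {x y : E} (h : ∀ g : E →ₐ[k] k, g x = g y) : x = y := by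
  by_contra hne
  obtain ⟨g, hg⟩ := RedTensor.exists_algHom_ne_zero (k := k) (sub_ne_zero.mpr hne)
  exact hg (by rw [map_sub, h, sub_self])

variable (k E) in
theorem finrank_eq_card [IsReduced E] : Module.finrank k E = Nat.card (E →ₐ[k] k) := by
  haveI := finite_pts (k := k) (E := E)
  cases nonempty_fintype (E →ₐ[k] k)
  rw [Nat.card_eq_fintype_card]
  refine le_antisymm ?_ ?_
  · have hinj : Function.Injective (LinearMap.pi fun g : E →ₐ[k] k => g.toLinearMap) :=
      fun x y h => ext_pts fun g => congrFun h g
    exact (LinearMap.finrank_le_finrank_of_injective hinj).trans (Module.finrank_pi k).le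
  · have h := (linearIndependent_algHom_toLinearMap k E k).fintype_card_le_finrank
    rwa [Module.finrank_linearMap, Module.finrank_self, mul_one] at h

variable (k E) in
/-- A reduced finite algebra is the algebra of functions on its points. -/
theorem pts_bijective [IsReduced E] : Function.Bijective (AlgHom.pi fun g : E →ₐ[k] k => g : E →ₐ[k] ((E →ₐ[k] k) → k)) := by
  haveI := finite_pts (k := k) (E := E)
  cases nonempty_fintype (E →ₐ[k] k)
  have hinj : Function.Injective (AlgHom.pi fun g : E →ₐ[k] k => g : E →ₐ[k] ((E →ₐ[k] k) → k)) :=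
    fun x y h => ext_pts fun g => congrFun h g
  refine ⟨hinj, (LinearMap.injective_iff_surjective_of_finrank_eq_finrank ?_ (f := AlgHom.toLinearMap (AlgHom.pi fun g : E →ₐ[k] k => g : E →ₐ[k] ((E →ₐ[k] k) → k)))).mp hinj⟩
  rw [finrank_eq_card k E, Nat.card_eq_fintype_card, Module.finrank_pi]

variable {F : Type w} [CommRing F] [Algebra k F] [Module.Finite k F]

/-- Pairs of points separate the tensor product. -/
theorem ext_pts_tensor [IsReduced E] [IsReduced F] {z z' : E ⊗[k] F}
    (h : ∀ (g : E →ₐ[k] k) (g' : F →ₐ[k] k),
      Algebra.TensorProduct.lift g g' (fun _ _ => Commute.all _ _) z =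
        Algebra.TensorProduct.lift g g' (fun _ _ => Commute.all _ _) z') : z = z' := by
  haveI : IsReduced (E ⊗[k] F) := RedTensor.isReduced_tensor_algClosed
  refine ext_pts (k := k) fun φ => ?_
  have := h (φ.comp Algebra.TensorProduct.includeLeft) (φ.comp Algebra.TensorProduct.includeRight)
  have e : Algebra.TensorProduct.lift (φ.comp Algebra.TensorProduct.includeLeft)
      (φ.comp Algebra.TensorProduct.includeRight) (fun _ _ => Commute.all _ _) = φ := by
    refine Algebra.TensorProduct.ext' fun a b => ?_
    rw [Algebra.TensorProduct.lift_tmul, AlgHom.comp_apply, AlgHom.comp_apply, ← map_mul]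
    simp
  rwa [e] at this

end Groth.Agent.SmallGrp
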