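import Mathlib
import Groth.Prelude.Def_AlphaP
import Groth.Prelude.Def_ConstGrp

/-! The finite group schemes α_p, μ_p and ℤ/p in characteristic p. -/

set_option autoImplicit false
universe u v w

open TensorProduct

noncomputable section

namespace Groth.Agent.SmallGrp

section Nil

variable {R : Type u} [CommRing R] {B : Type v} [CommRing B] [Bialgebra R B]
variable {G : Type w} [Group G] [Fintype G] [DecidableEq G]

theorem isEmpty_equiv_constGrp [Nontrivial R] [Nontrivial G]
    (hB : ∀ b : B, IsNilpotent (b - algebraMap R B (Coalgebra.counit (R := R) b))) :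
    IsEmpty (ConstGrp.F R G ≃ₐc[R] B) := by
  refine ⟨fun φ => ?_⟩
  obtain ⟨g, hg⟩ := exists_ne (1 : G)
  have h1 : IsIdempotentElem (φ (ConstGrp.e R g)) := by
    rw [IsIdempotentElem, ← map_mul, ConstGrp.e_mul_e, if_pos rfl]
  have h2 : Coalgebra.counit (R := R) (φ (ConstGrp.e R g)) = 0 := by
    rw [CoalgHomClass.counit_comp_apply φ]
    exact (ConstGrp.counitAlg_e R G g).trans (if_neg (Ne.symm hg))
  have h3 := hB (φ (ConstGrp.e R g))
  rw [h2, map_zero, sub_zero] at h3
  have h4 : φ (ConstGrp.e R g) = φ 0 := (h1.eq_zero_of_isNilpotent h3).trans (map_zero φ).symm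
  have h5 : ConstGrp.e R g = 0 := (EquivLike.injective φ) h4
  simpa using congrArg (fun f : ConstGrp.F R G => f g) h5

end Nil

section Alpha

variable (p : ℕ) [hp : Fact p.Prime] (R : Type u) [CommRing R] [CharP R p]

theorem isNilpotent_sub_alphaP (b : AlphaP.A p R) :
    IsNilpotent (b - algebraMap R (AlphaP.A p R) (Coalgebra.counit (R := R) b)) := by
  obtain ⟨f, rfl⟩ := AlphaP.mk_surjective p R b
  have hc : Coalgebra.counit (R := R) (AlphaP.mk p R f) = f.coeff 0 := by
    have : (AlphaP.counitAlg p R).comp (AlphaP.mk p R) = Polynomial.aeval (0 : R) :=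
      Polynomial.algHom_ext (by simp [AlphaP.mk_X])
    show (AlphaP.counitAlg p R) (AlphaP.mk p R f) = _
    rw [← AlgHom.comp_apply, this, Polynomial.coeff_zero_eq_aeval_zero]
  rw [hc]
  have h : AlphaP.mk p R f - algebraMap R (AlphaP.A p R) (f.coeff 0) =
      AlphaP.x p R * AlphaP.mk p R f.divX := by
    have e := congrArg (AlphaP.mk p R) (Polynomial.X_mul_divX_add f)
    rw [map_add, map_mul, AlphaP.mk_X, Polynomial.C_eq_algebraMap, AlgHom.commutes] at e
    rw [← e, add_sub_cancel_right]
  rw [h]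
  exact (Commute.all _ _).isNilpotent_mul_right ⟨p, AlphaP.x_pow p R⟩

theorem isNilpotent_sub_monoidAlgebra (G : Type v) [CommMonoid G] (hG : ∀ g : G, g ^ p = 1)
    (b : MonoidAlgebra R G) :
    IsNilpotent (b - algebraMap R (MonoidAlgebra R G) (Coalgebra.counit (R := R) b)) := by
  haveI : CharP (MonoidAlgebra R G) p :=
    charP_of_injective_algebraMap (Bialgebra.algebraMap_injective (R := R) (MonoidAlgebra R G)) p
  induction b using MonoidAlgebra.induction_on with
  | of g =>
    refine ⟨p, ?_⟩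
    rw [sub_pow_char, ← map_pow]
    simp [MonoidAlgebra.of_apply, MonoidAlgebra.one_def, hG, MonoidAlgebra.single_pow]
  | add x y hx hy =>
    rw [map_add, map_add, add_sub_add_comm]
    exact (Commute.all _ _).isNilpotent_add hx hy
  | smul r x hx =>
    rw [map_smul, smul_eq_mul, map_mul, Algebra.smul_def, ← mul_sub]
    exact (Commute.all _ _).isNilpotent_mul_left hx

omit hp in
theorem monoidAlgebra_primitive_eq_zero {G : Type v} [CommMonoid G] (b : MonoidAlgebra R G)
    (h : Coalgebra.comul (R := R) b = b ⊗ₜ[R] 1 + 1 ⊗ₜ[R] b) : b = 0 := by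
  classical
  let c : G → MonoidAlgebra R G →ₗ[R] R := fun g => Finsupp.lapply g ∘ₗ (MonoidAlgebra.coeffLinearEquiv R).toLinearMap
  let T : G → MonoidAlgebra R G ⊗[R] MonoidAlgebra R G →ₗ[R] R := fun g =>
    (TensorProduct.lid R R).toLinearMap ∘ₗ TensorProduct.map (c g) (c g)
  have hc : ∀ g x, c g x = x.coeff g := fun g x => rfl
  have key : ∀ g x, T g (Coalgebra.comul (R := R) x) = x.coeff g := by
    intro g x
    induction x using MonoidAlgebra.induction_on with
    | of h =>
      simp only [T, hc, MonoidAlgebra.of_apply, MonoidAlgebra.comul_single, LinearMap.comp_apply, LinearEquiv.coe_coe,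
        TensorProduct.map_tmul, TensorProduct.lid_tmul, MonoidAlgebra.coeff_single, smul_eq_mul,
        Finsupp.single_apply, CommSemiring.comul_apply]
      split_ifs with hg <;> simp [hg]
    | add x y hx hy => simp [map_add, hx, hy]
    | smul r x hx => simp [map_smul, hx]
  ext g
  have := key g b
  rw [h, map_add] at this
  simp only [T, hc, LinearMap.comp_apply, LinearEquiv.coe_coe, TensorProduct.map_tmul, TensorProduct.lid_tmul,
    smul_eq_mul, MonoidAlgebra.one_def, MonoidAlgebra.coeff_single, Finsupp.single_apply] at this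
  split_ifs at this with hg
  · simpa [two_mul] using this
  · simpa using this.symm

theorem isEmpty_monoidAlgebra_equiv_alphaP (G : Type v) [CommMonoid G] :
    IsEmpty (MonoidAlgebra R G ≃ₐc[R] AlphaP.A p R) := by
  refine ⟨fun φ => ?_⟩
  have hx : Coalgebra.comul (R := R) (φ.symm (AlphaP.x p R)) =
      φ.symm (AlphaP.x p R) ⊗ₜ[R] 1 + 1 ⊗ₜ[R] φ.symm (AlphaP.x p R) := by
    rw [← CoalgHomClass.map_comp_comul_apply φ.symm, AlphaP.comul_x]
    simp [map_add, map_one]
  have h0 := congrArg φ (monoidAlgebra_primitive_eq_zero R _ hx)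
  haveI : Nontrivial R := CharP.nontrivial_of_char_ne_one hp.out.ne_one
  rw [map_zero, show φ (φ.symm (AlphaP.x p R)) = AlphaP.x p R from φ.toEquiv.apply_symm_apply _] at h0
  have := congrArg (fun y => (AlphaP.basis p R).repr y ⟨1, hp.out.one_lt⟩) h0
  simp only [show AlphaP.x p R = AlphaP.basis p R ⟨1, hp.out.one_lt⟩ by simp, Module.Basis.repr_self,
    Finsupp.single_eq_same, map_zero, Finsupp.zero_apply, one_ne_zero] at this

theorem primitive_eq_smul_x (a : AlphaP.A p R)
    (h : Coalgebra.comul (R := R) a = a ⊗ₜ[R] 1 + 1 ⊗ₜ[R] a) : ∃ c : R, a = c • AlphaP.x p R := by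
  haveI : Nontrivial R := CharP.nontrivial_of_char_ne_one hp.out.ne_one
  classical
  let b := AlphaP.basis p R
  let i1 : Fin p := ⟨1, hp.out.one_lt⟩
  let D : AlphaP.A p R →ₗ[R] AlphaP.A p R :=
    (TensorProduct.rid R (AlphaP.A p R)).toLinearMap ∘ₗ (b.coord i1).lTensor _ ∘ₗ Coalgebra.comul
  have hcoord : ∀ n, n < p → b.coord i1 (AlphaP.x p R ^ n) = if n = 1 then 1 else 0 := by
    intro n hn
    rw [show AlphaP.x p R ^ n = b ⟨n, hn⟩ by simp [b], Module.Basis.coord_apply, Module.Basis.repr_self,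
      Finsupp.single_apply]
    simp [i1, Fin.ext_iff]
  have hD : ∀ i, i < p → D (AlphaP.x p R ^ i) = (i : R) • AlphaP.x p R ^ (i - 1) := by
    intro i hi
    have hc : Coalgebra.comul (R := R) (AlphaP.x p R ^ i) =
        ∑ m ∈ Finset.range (i + 1), (i.choose m : R) • ((AlphaP.x p R ^ m) ⊗ₜ[R] (AlphaP.x p R ^ (i - m))) := by
      rw [Bialgebra.comul_pow, AlphaP.comul_x, add_pow]
      refine Finset.sum_congr rfl fun m _ => ?_
      rw [Algebra.TensorProduct.tmul_pow, Algebra.TensorProduct.tmul_pow, Algebra.TensorProduct.tmul_mul_tmul,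
        one_pow, one_pow, mul_one, one_mul, Nat.cast_smul_eq_nsmul, nsmul_eq_mul, mul_comm]
    simp only [D, LinearMap.comp_apply, LinearEquiv.coe_coe, hc, map_sum, map_smul, LinearMap.lTensor_tmul,
      TensorProduct.rid_tmul]
    rw [Finset.sum_eq_single (i - 1)]
    · rcases Nat.eq_zero_or_pos i with h0 | h0
      · subst h0
        rw [hcoord _ (by omega)]
        simp
      · rw [hcoord _ (by omega), if_pos (by omega), one_smul, Nat.choose_symm (by omega : 1 ≤ i), Nat.choose_one_right]
    · intro m hm hne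
      rw [Finset.mem_range] at hm
      rw [hcoord _ (by omega), if_neg (by omega), zero_smul, smul_zero]
    · intro hm
      exact absurd (Finset.mem_range.mpr (by omega)) hm
  have hsum : a = ∑ j : Fin p, b.repr a j • AlphaP.x p R ^ (j : ℕ) := by
    conv_lhs => rw [← b.sum_repr a]
    simp [b]
  have h1 : D a = b.coord i1 a • 1 := by
    simp only [D, LinearMap.comp_apply, LinearEquiv.coe_coe, h, map_add, LinearMap.lTensor_tmul, TensorProduct.rid_tmul]
    rw [show (1 : AlphaP.A p R) = AlphaP.x p R ^ 0 from (pow_zero _).symm, hcoord 0 hp.out.pos]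
    simp
  have h2 : D a = ∑ j : Fin p, (b.repr a j * (j : ℕ)) • AlphaP.x p R ^ ((j : ℕ) - 1) := by
    conv_lhs => rw [hsum, map_sum]
    exact Finset.sum_congr rfl fun j _ => by rw [map_smul, hD j j.2, smul_smul]
  have h3 : b.repr a ⟨0, hp.out.pos⟩ = 0 := by
    have h4 : Coalgebra.counit (R := R) a = 0 := by
      have := congrArg (fun z => Coalgebra.counit (R := R) (TensorProduct.lid R _
        ((Coalgebra.counit (R := R) (A := AlphaP.A p R)).rTensor _ z))) h
      simp [Coalgebra.rTensor_counit_comul] at this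
      simpa using this
    rw [hsum, map_sum] at h4
    simp only [map_smul, Bialgebra.counit_pow, AlphaP.counit_x, smul_eq_mul] at h4
    rw [Finset.sum_eq_single (⟨0, hp.out.pos⟩ : Fin p)] at h4
    · simpa using h4
    · intro j _ hj
      rw [zero_pow fun h => hj (Fin.ext h), mul_zero]
    · simp
  refine ⟨b.repr a i1, ?_⟩
  conv_lhs => rw [hsum]
  rw [Finset.sum_eq_single i1]
  · simp [i1]
  · intro j _ hj
    rcases Nat.eq_zero_or_pos (j : ℕ) with hj0 | hj0
    · rw [show j = ⟨0, hp.out.pos⟩ from Fin.ext hj0, h3, zero_smul]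
    have hj2 : 2 ≤ (j : ℕ) := by
      have : (j : ℕ) ≠ 1 := fun h => hj (Fin.ext h)
      omega
    have hcoef : b.repr a j * (j : ℕ) = 0 := by
      have e : ∀ n (hn : n < p), AlphaP.x p R ^ n = b ⟨n, hn⟩ := fun n hn => by simp [b]
      have h5 := congrArg (fun z => b.repr z ⟨(j : ℕ) - 1, by omega⟩) (h1.symm.trans h2)
      simp only [map_sum, map_smul, Finsupp.coe_finsetSum, Finset.sum_apply, Finsupp.coe_smul, Pi.smul_apply] at h5
      rw [show (1 : AlphaP.A p R) = AlphaP.x p R ^ 0 from (pow_zero _).symm, e 0 hp.out.pos, b.repr_self,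
        Finsupp.single_apply, if_neg (fun h => by simp [Fin.ext_iff] at h; omega), smul_zero,
        Finset.sum_eq_single j] at h5
      · rw [e _ (by omega : (j : ℕ) - 1 < p), b.repr_self, Finsupp.single_eq_same, smul_eq_mul, mul_one] at h5
        exact h5.symm
      · intro l _ hl
        rw [e _ (by omega : (l : ℕ) - 1 < p), b.repr_self, Finsupp.single_apply]
        by_cases hl0 : (l : ℕ) = 0
        · simp [hl0]
        · rw [if_neg fun h => hl (Fin.ext (by simp [Fin.ext_iff] at h; omega)), smul_zero]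
      · simp
    have hu : IsUnit ((j : ℕ) : R) := (CharP.isUnit_natCast_iff hp.out).mpr fun hd =>
      absurd (Nat.le_of_dvd hj0 hd) (by omega)
    rw [(hu.mul_left_eq_zero).mp hcoef, zero_smul]
  · simp

theorem end_eq_scalars (T : Type u) [CommRing T] [CharP T p] :
    (∀ f : AlphaP.A p T →ₐc[T] AlphaP.A p T, ∃! c : T, f (AlphaP.x p T) = c • AlphaP.x p T) ∧
      (∀ c : T, ∃ f : AlphaP.A p T →ₐc[T] AlphaP.A p T, f (AlphaP.x p T) = c • AlphaP.x p T) := by
  haveI : Nontrivial T := CharP.nontrivial_of_char_ne_one hp.out.ne_one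
  refine ⟨fun f => ?_, fun c => ?_⟩
  · obtain ⟨c, hc⟩ := primitive_eq_smul_x p T (f (AlphaP.x p T)) (by
      rw [← CoalgHomClass.map_comp_comul_apply f, AlphaP.comul_x]
      simp [map_add, map_one])
    refine ⟨c, hc, fun d hd => ?_⟩
    have h := congrArg (fun z => (AlphaP.basis p T).repr z ⟨1, hp.out.one_lt⟩) (hd.symm.trans hc)
    simp only [show AlphaP.x p T = AlphaP.basis p T ⟨1, hp.out.one_lt⟩ by simp, map_smul, Module.Basis.repr_self,
      Finsupp.smul_single, smul_eq_mul, mul_one, Finsupp.single_eq_same] at h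
    exact h
  · let f : AlphaP.A p T →ₐ[T] AlphaP.A p T :=
      AlphaP.lift p T (c • AlphaP.x p T) (by rw [smul_pow, AlphaP.x_pow, smul_zero])
    have hf : f (AlphaP.x p T) = c • AlphaP.x p T := AlphaP.lift_x _ _
    refine ⟨BialgHom.ofAlgHom f ?_ ?_, hf⟩
    · refine AlphaP.algHom_ext ?_
      rw [AlgHom.comp_apply, Bialgebra.counitAlgHom_apply, Bialgebra.counitAlgHom_apply, hf, map_smul,
        AlphaP.counit_x, smul_zero]
    · refine AlphaP.algHom_ext ?_
      rw [AlgHom.comp_apply, AlgHom.comp_apply, Bialgebra.comulAlgHom_apply, Bialgebra.comulAlgHom_apply, hf,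
        map_smul, AlphaP.comul_x, map_add, Algebra.TensorProduct.map_tmul, Algebra.TensorProduct.map_tmul, hf,
        map_one, smul_add, TensorProduct.smul_tmul', ← TensorProduct.tmul_smul]

end Alpha

end Groth.Agent.SmallGrp
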